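import Groth.Agent.Agf.H621.PrimMon
import Mathlib.RingTheory.Adjoin.Basic
import Mathlib.Data.Nat.Prime.Factorial
import Mathlib.LinearAlgebra.LinearIndependent.Lemmas

/-!
# Truncated monomials in primitive elements

* `linearIndepOn_good` : for linearly independent primitive elements `y i` of a bialgebra the monomials
  `∏ (y i)^(a i)` with `(a i)! ≠ 0` in `k` are linearly independent (any characteristic);
* `injOn_adjoin` : a homomorphism `π : A → C` to a bialgebra, injective on a subspace `W` (stable under `p`-th powers
  in characteristic `p`) whose elements have primitive images, is injective on the subalgebra generated by `W`.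
-/

set_option autoImplicit false
universe u v w

open TensorProduct WithConv
open Groth.Agent.Books.CharZeroUnip2 Groth.Agent.Agf.H621.MChoose Groth.Agent.Agf.H621.PrimMon

namespace K507.PrimPBW

section good

variable {ι : Type*} (k : Type u) [Field k]

/-- Multi-indices all of whose factorials are invertible. -/
def Good (a : ι → ℕ) : Prop := ∀ i, ((a i).factorial : k) ≠ 0

variable {k}

lemma Good.mono {a b : ι → ℕ} (h : Good k b) (hab : a ≤ b) : Good k a := fun i h0 => by
  obtain ⟨c, hc⟩ := Nat.factorial_dvd_factorial (hab i)
  apply h i
  rw [hc, Nat.cast_mul, h0, zero_mul]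

lemma good_zero : Good k (0 : ι → ℕ) := fun i => by simp

lemma Good.mch_ne_zero [Fintype ι] {d x : ι → ℕ} (h : Good k d) (hx : x ≤ d) : (mch d x : k) ≠ 0 := by
  rw [mch, Nat.cast_prod, Finset.prod_ne_zero_iff]
  intro i _ h0
  apply h i
  rw [← Nat.choose_mul_factorial_mul_factorial (hx i), Nat.cast_mul, Nat.cast_mul, h0, zero_mul, zero_mul]

end good

section indep

variable {ι : Type*} [Fintype ι] [DecidableEq ι] {k : Type u} {C : Type v} [Field k] [CommRing C]
  [Bialgebra k C]

theorem linearIndepOn_good {y : ι → C} (hy : ∀ i, IsPrim k (y i)) (hli : LinearIndependent k y) :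
    LinearIndepOn k (mon y) {a | Good k a} := by
  classical
  have hnt : Nontrivial C := by
    refine ⟨⟨1, 0, fun h => ?_⟩⟩
    have := congrArg (CoalgebraStruct.counit (R := k)) h
    rw [Bialgebra.counit_one, map_zero] at this
    exact one_ne_zero this
  have key : ∀ N : ℕ, LinearIndepOn k (mon y) {a | Good k a ∧ deg a ≤ N} := by
    intro N
    induction N with
    | zero =>
      have hs : {a : ι → ℕ | Good k a ∧ deg a ≤ 0} = {0} := by
        ext a
        simp only [Set.mem_ofPred_eq, Nat.le_zero, Set.mem_singleton_iff]
        constructor
        · rintro ⟨-, h⟩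
          by_contra h'
          have := deg_pos h'
          omega
        · rintro rfl
          exact ⟨good_zero, by simp [deg]⟩
      rw [hs]
      refine LinearIndepOn.singleton ?_
      rw [mon_zero]
      exact one_ne_zero
    | succ N ih =>
      obtain ⟨lam, hlam⟩ := exists_dual (mon y) _ ih
      have hlam0 : ∀ a, a ≠ 0 → Good k a → deg a ≤ N → lam a 1 = 0 := by
        intro a ha hga haN
        rw [← mon_zero y, hlam a ⟨hga, haN⟩ 0 ⟨good_zero, by simp [deg]⟩, if_neg ha]
      rw [linearIndepOn_iff]
      intro Q hQ hQ0
      rw [Finsupp.linearCombination_apply, Finsupp.sum] at hQ0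
      have hQs : ∀ d, Q d ≠ 0 → Good k d ∧ deg d ≤ N + 1 := by
        intro d hd
        exact (Finsupp.mem_supported k Q).1 hQ (Finsupp.mem_support_iff.2 hd)
      -- apply `Δ - ⊗ 1 - 1 ⊗`
      have h1 : ∀ a b : ι → ℕ, a ≠ 0 → b ≠ 0 → Good k (a + b) → deg (a + b) ≤ N + 1 →
          Q (a + b) * mch (a + b) a = 0 := by
        intro a b ha hb hgab hab
        have hda := deg_pos ha
        have hdb := deg_pos hb
        have hga : Good k a := hgab.mono (fun i => by simp)
        have hgb : Good k b := hgab.mono (fun i => by simp)
        rw [deg_add] at hab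
        have haN : deg a ≤ N := by omega
        have hbN : deg b ≤ N := by omega
        let Φ : C →ₗ[k] k := two (lam a) (lam b) ∘ₗ CoalgebraStruct.comul
        have h2 : ∀ d, Good k d → deg d ≤ N + 1 → Φ (mon y d) = if a + b = d then (mch d a : k) else 0 := by
          intro d hgd hd
          change two (lam a) (lam b) (CoalgebraStruct.comul (R := k) (mon y d)) = _
          rw [comul_mon hy, map_sum]
          have h3 : ∀ x ∈ box d, two (lam a) (lam b)
              ((mch d x : k) • (mon y x ⊗ₜ[k] mon y (d - x))) =
              if a = x ∧ b = d - x then (mch d x : k) else 0 := by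
            intro x hx
            rw [mem_box] at hx
            have hxd : x + (d - x) = d := by
              funext i
              have hxi : x i ≤ d i := hx i
              simp only [Pi.add_apply, Pi.sub_apply]
              omega
            have hdd : deg x + deg (d - x) = deg d := by rw [← deg_add, hxd]
            have hgx : Good k x := hgd.mono hx
            have hgx' : Good k (d - x) := hgd.mono (fun i => by
              change d i - x i ≤ d i
              exact Nat.sub_le _ _)
            rw [map_smul, two_tmul, smul_eq_mul]
            by_cases hx0 : x = 0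
            · rw [hx0, mon_zero, hlam0 a ha hga haN, zero_mul, mul_zero, if_neg]
              rintro ⟨h, -⟩
              exact ha h
            by_cases hx1 : d - x = 0
            · rw [hx1, mon_zero, hlam0 b hb hgb hbN, mul_zero, mul_zero, if_neg]
              rintro ⟨-, h⟩
              exact hb h
            have := deg_pos hx0
            have := deg_pos hx1
            have hxN : deg x ≤ N := by omega
            have hxN' : deg (d - x) ≤ N := by omega
            rw [hlam a ⟨hga, haN⟩ x ⟨hgx, hxN⟩, hlam b ⟨hgb, hbN⟩ _ ⟨hgx', hxN'⟩]
            by_cases hax : a = x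
            · by_cases hbx : b = d - x
              · rw [if_pos hax, if_pos hbx, if_pos ⟨hax, hbx⟩, mul_one, mul_one]
              · rw [if_neg hbx, mul_zero, mul_zero, if_neg fun h => hbx h.2]
            · rw [if_neg hax, zero_mul, mul_zero, if_neg fun h => hax h.1]
          rw [Finset.sum_congr rfl h3]
          by_cases hd' : a + b = d
          · rw [if_pos hd', Finset.sum_eq_single a]
            · rw [if_pos]
              refine ⟨rfl, ?_⟩
              rw [← hd']
              funext i
              simp
            · intro x _ hxa
              rw [if_neg]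
              rintro ⟨h, -⟩
              exact hxa h.symm
            · intro h
              exfalso
              apply h
              rw [mem_box, ← hd']
              intro i
              simp
          · rw [if_neg hd']
            refine Finset.sum_eq_zero fun x hx => ?_
            rw [if_neg]
            rintro ⟨h, h'⟩
            apply hd'
            rw [h, h']
            funext i
            have hxi : x i ≤ d i := (mem_box.1 hx) i
            simp only [Pi.add_apply, Pi.sub_apply]
            omega
        have h3 := congrArg Φ hQ0
        rw [map_sum, map_zero] at h3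
        have h4 : ∀ d ∈ Q.support, Φ (Q d • mon y d) = if a + b = d then Q d * (mch d a : k) else 0 := by
          intro d hd
          have h5 := hQs d (Finsupp.mem_support_iff.1 hd)
          rw [map_smul, h2 d h5.1 h5.2, smul_eq_mul, mul_ite, mul_zero]
        rw [Finset.sum_congr rfl h4, Finset.sum_ite_eq] at h3
        by_cases hs : a + b ∈ Q.support
        · rwa [if_pos hs] at h3
        · rw [Finsupp.notMem_support_iff.1 hs, zero_mul]
      -- support of `Q`
      have h2 : ∀ d, Q d ≠ 0 → d = 0 ∨ ∃ i, d = Pi.single i 1 := by
        intro d hd
        by_cases hd0 : d = 0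
        · exact Or.inl hd0
        right
        obtain ⟨i, hi⟩ : ∃ i, d i ≠ 0 := by
          by_contra h
          push Not at h
          exact hd0 (funext h)
        refine ⟨i, ?_⟩
        by_contra hne
        have hle : (Pi.single i 1 : ι → ℕ) ≤ d := by
          intro j
          by_cases hj : j = i
          · subst hj
            rw [Pi.single_eq_same]
            exact Nat.one_le_iff_ne_zero.2 hi
          · rw [Pi.single_eq_of_ne hj]
            exact Nat.zero_le _
        have hsum : (Pi.single i 1 : ι → ℕ) + (d - Pi.single i 1) = d := by
          funext j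
          have hj' : (Pi.single i 1 : ι → ℕ) j ≤ d j := hle j
          simp only [Pi.add_apply, Pi.sub_apply]
          omega
        have hgd := hQs d hd
        have h3 := h1 (Pi.single i 1) (d - Pi.single i 1) (by
          intro h
          have := congrFun h i
          rw [Pi.single_eq_same] at this
          exact one_ne_zero this) (by
          intro h
          rw [h, add_zero] at hsum
          exact hne hsum.symm) (by rw [hsum]; exact hgd.1) (by rw [hsum]; exact hgd.2)
        rw [hsum] at h3
        exact (hgd.1.mch_ne_zero hle) ((mul_eq_zero.1 h3).resolve_left hd)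
      -- the constant term
      have h3 : Q 0 = 0 := by
        have h4 := congrArg (CoalgebraStruct.counit (R := k)) hQ0
        rw [map_sum, map_zero] at h4
        have h5 : ∀ d ∈ Q.support, CoalgebraStruct.counit (R := k) (Q d • mon y d) =
            if 0 = d then Q d else 0 := by
          intro d _
          rw [map_smul, smul_eq_mul]
          by_cases hd : 0 = d
          · rw [if_pos hd, ← hd, mon_zero, Bialgebra.counit_one, mul_one]
          · rw [if_neg hd, counit_mon hy (Ne.symm hd), mul_zero]
        rw [Finset.sum_congr rfl h5, Finset.sum_ite_eq] at h4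
        by_cases hs : (0 : ι → ℕ) ∈ Q.support
        · rwa [if_pos hs] at h4
        · exact Finsupp.notMem_support_iff.1 hs
      -- the linear relation
      have hinj : Function.Injective (fun i : ι => (Pi.single i 1 : ι → ℕ)) := by
        intro i i' h
        by_contra hne
        have := congrFun h i
        simp only at this
        rw [Pi.single_eq_same, Pi.single_eq_of_ne hne] at this
        exact one_ne_zero this
      have h4 : ∑ i, Q (Pi.single i 1) • y i = 0 := by
        have h5 : ∑ i, Q (Pi.single i 1) • y i = ∑ i, Q (Pi.single i 1) • mon y (Pi.single i 1) :=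
          Finset.sum_congr rfl fun i _ => by rw [mon_single, pow_one]
        rw [h5, ← Finset.sum_image (f := fun d => Q d • mon y d) (g := fun i : ι => (Pi.single i 1 : ι → ℕ))
          (fun i _ j _ h => hinj h), ← hQ0]
        symm
        refine Finset.sum_subset_zero_on_sdiff (fun d hd => ?_) (fun d hd => ?_) (fun _ _ => rfl)
        · rw [Finsupp.mem_support_iff] at hd
          rcases h2 d hd with h | ⟨i, h⟩
          · rw [h] at hd
            exact absurd h3 hd
          · rw [Finset.mem_image]
            exact ⟨i, Finset.mem_univ _, h.symm⟩
        · rw [Finset.mem_sdiff, Finsupp.notMem_support_iff] at hd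
          rw [hd.2, zero_smul]
      have h5 := Fintype.linearIndependent_iff.1 hli _ h4
      ext d
      rw [Finsupp.zero_apply]
      by_contra hd
      rcases h2 d hd with h | ⟨i, h⟩
      · rw [h] at hd
        exact hd h3
      · rw [h] at hd
        exact hd (h5 i)
  rw [linearIndepOn_iff]
  intro Q hQ hQ0
  have h1 := key (Q.support.sup deg)
  rw [linearIndepOn_iff] at h1
  refine h1 Q ?_ hQ0
  rw [Finsupp.mem_supported]
  intro d hd
  exact ⟨(Finsupp.mem_supported k Q).1 hQ hd, Finset.le_sup (f := deg) hd⟩

end indep

section infinite

variable {ι : Type*} {k : Type u} {C : Type v} [Field k]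

/-- Monomials with finitely supported exponents. -/
noncomputable def fmon [CommRing C] (y : ι → C) (a : ι →₀ ℕ) : C := a.prod fun i n => y i ^ n

theorem fmon_eq_mon [CommRing C] (y : ι → C) (J : Finset ι) (a : ι →₀ ℕ) (ha : a.support ⊆ J) :
    fmon y a = mon (fun j : J => y j) (fun j : J => a j) := by
  rw [fmon, mon, Finsupp.prod_of_support_subset a ha _ (fun i _ => pow_zero _)]
  exact (Finset.prod_coe_sort J (fun j => y j ^ a j)).symm

theorem fmon_indep [CommRing C] [Bialgebra k C] {y : ι → C} (hy : ∀ i, IsPrim k (y i))
    (hli : LinearIndependent k y) : LinearIndepOn k (fmon y) {a | Good k (a : ι → ℕ)} := by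
  classical
  rw [linearIndepOn_iff]
  intro Q hQ hQ0
  let J : Finset ι := Q.support.biUnion fun d => d.support
  have hJ : ∀ d ∈ Q.support, d.support ⊆ J := fun d hd => Finset.subset_biUnion_of_mem (fun d => d.support) hd
  have h1 : LinearIndepOn k (mon fun j : J => y j) {a | Good k a} :=
    linearIndepOn_good (fun j => hy j) (hli.comp _ Subtype.val_injective)
  let r : (ι →₀ ℕ) → (J → ℕ) := fun d j => d j
  have hr : Set.InjOn r (Q.support : Set (ι →₀ ℕ)) := by
    intro a ha b hb hab
    ext i
    by_cases hi : i ∈ J
    · exact congrFun hab ⟨i, hi⟩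
    · have h2 : a i = 0 := Finsupp.notMem_support_iff.1 fun h => hi (hJ a ha h)
      have h3 : b i = 0 := Finsupp.notMem_support_iff.1 fun h => hi (hJ b hb h)
      rw [h2, h3]
  have h2 : LinearIndepOn k ((mon fun j : J => y j) ∘ r) (Q.support : Set (ι →₀ ℕ)) := by
    refine LinearIndepOn.comp_of_image (h1.mono ?_) hr
    rintro _ ⟨d, hd, rfl⟩
    have hg : Good k (d : ι → ℕ) := (Finsupp.mem_supported k Q).1 hQ hd
    exact fun j => hg j
  rw [linearIndepOn_iff] at h2
  refine h2 Q ((Finsupp.mem_supported k Q).2 (fun d hd => hd)) ?_
  rw [← hQ0, Finsupp.linearCombination_apply, Finsupp.linearCombination_apply]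
  refine Finset.sum_congr rfl fun d hd => ?_
  change Q d • mon (fun j : J => y j) (r d) = Q d • fmon y d
  rw [fmon_eq_mon y J d (hJ d hd)]

theorem fmon_add [CommRing C] (y : ι → C) (a b : ι →₀ ℕ) : fmon y (a + b) = fmon y a * fmon y b := by
  classical
  exact Finsupp.prod_add_index' (fun i => pow_zero _) (fun i m n => pow_add _ _ _)

theorem fmon_single [CommRing C] (y : ι → C) (i : ι) (n : ℕ) : fmon y (Finsupp.single i n) = y i ^ n := by
  exact Finsupp.prod_single_index (h := fun i n => y i ^ n) (pow_zero _)

theorem fmon_zero [CommRing C] (y : ι → C) : fmon y 0 = 1 := Finsupp.prod_zero_index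

end infinite

section span

variable {ι : Type*} {k : Type u} {A : Type v} [Field k] [CommRing A] [Algebra k A]

/-- The span of the good monomials. -/
noncomputable def M (k : Type u) [Field k] [Algebra k A] (x : ι → A) : Submodule k A :=
  Submodule.span k (fmon x '' {a | Good k (a : ι → ℕ)})

theorem mul_mem (x : ι → A) (hF : ∀ p : ℕ, p.Prime → CharP k p → ∀ i, x i ^ p ∈ Submodule.span k (Set.range x)) :
    ∀ (n : ℕ) (a : ι →₀ ℕ), (a.sum fun _ m => m) = n → Good k (a : ι → ℕ) → ∀ j, fmon x a * x j ∈ M k x := by
  classical
  intro n
  induction n using Nat.strong_induction_on with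
  | _ n ih =>
    intro a han hga j
    by_cases hgood : (((a j + 1).factorial : ℕ) : k) ≠ 0
    · have e : fmon x a * x j = fmon x (a + Finsupp.single j 1) := by
        rw [fmon_add, fmon_single, pow_one]
      rw [e]
      refine Submodule.subset_span ⟨_, ?_, rfl⟩
      intro i
      by_cases hi : i = j
      · subst hi
        simpa using hgood
      · have h1 : (a + Finsupp.single j 1 : ι →₀ ℕ) i = a i := by
          rw [Finsupp.add_apply, Finsupp.single_eq_of_ne hi, add_zero]
        rw [h1]
        exact hga i
    · push Not at hgood
      have h1 : ((a j + 1 : ℕ) : k) = 0 := by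
        rw [Nat.factorial_succ, Nat.cast_mul] at hgood
        exact (mul_eq_zero.1 hgood).resolve_right (hga j)
      obtain ⟨p, hp⟩ := CharP.exists k
      have hdvd : p ∣ a j + 1 := (CharP.cast_eq_zero_iff k p _).1 h1
      have hp0 : p ≠ 0 := by
        rintro rfl
        have := Nat.eq_zero_of_zero_dvd hdvd
        omega
      have hpp : p.Prime := (CharP.char_is_prime_or_zero k p).resolve_right hp0
      have hlt : a j < p := by
        by_contra hle
        push Not at hle
        apply hga j
        exact (CharP.cast_eq_zero_iff k p _).2 ((Nat.Prime.dvd_factorial hpp).2 hle)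
      have haj : a j + 1 = p := Nat.le_antisymm hlt (Nat.le_of_dvd (Nat.succ_pos _) hdvd)
      let b : ι →₀ ℕ := a.erase j
      have hab : a = b + Finsupp.single j (a j) := (Finsupp.erase_add_single j a).symm
      have hsum : (b.sum fun _ m => m) + a j = n := by
        have h2 : (a.sum fun _ m => m) = (b.sum fun _ m => m) + a j := by
          conv_lhs => rw [hab]
          rw [Finsupp.sum_add_index' (fun _ => rfl) (fun _ _ _ => rfl),
            Finsupp.sum_single_index rfl]
        omega
      have hgb : Good k (b : ι → ℕ) := hga.mono (fun i => by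
        by_cases hi : i = j
        · subst hi
          simp [b]
        · simp [b, Finsupp.erase_ne hi])
      have e : fmon x a * x j = fmon x b * x j ^ p := by
        conv_lhs => rw [hab]
        rw [fmon_add, fmon_single, ← haj, pow_succ, mul_assoc]
      rw [e]
      have h3 : ∀ w ∈ Submodule.span k (Set.range x), fmon x b * w ∈ M k x := by
        intro w hw
        induction hw using Submodule.span_induction with
        | mem w hw =>
          obtain ⟨i, rfl⟩ := hw
          refine ih (b.sum fun _ m => m) ?_ b rfl hgb i
          have := hpp.two_le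
          omega
        | zero => rw [mul_zero]; exact zero_mem _
        | add u v _ _ hu hv => rw [mul_add]; exact add_mem hu hv
        | smul c u _ hu => rw [mul_smul_comm]; exact Submodule.smul_mem _ _ hu
      exact h3 _ (hF p hpp hp j)

theorem adjoin_le (x : ι → A) (hF : ∀ p : ℕ, p.Prime → CharP k p → ∀ i, x i ^ p ∈ Submodule.span k (Set.range x))
    (a : A) (ha : a ∈ Algebra.adjoin k (Submodule.span k (Set.range x) : Set A)) : a ∈ M k x := by
  have h1 : ∀ m ∈ M k x, ∀ w ∈ Submodule.span k (Set.range x), m * w ∈ M k x := by
    intro m hm
    induction hm using Submodule.span_induction with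
    | mem m hm =>
      obtain ⟨d, hd, rfl⟩ := hm
      intro w hw
      induction hw using Submodule.span_induction with
      | mem w hw =>
        obtain ⟨i, rfl⟩ := hw
        exact mul_mem x hF _ d rfl hd i
      | zero => rw [mul_zero]; exact zero_mem _
      | add u v _ _ hu hv => rw [mul_add]; exact add_mem hu hv
      | smul c u _ hu => rw [mul_smul_comm]; exact Submodule.smul_mem _ _ hu
    | zero => intro w _; rw [zero_mul]; exact zero_mem _
    | add u v _ _ hu hv => intro w hw; rw [add_mul]; exact add_mem (hu w hw) (hv w hw)
    | smul c u _ hu => intro w hw; rw [smul_mul_assoc]; exact Submodule.smul_mem _ _ (hu w hw)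
  have h0 : (1 : A) ∈ M k x := Submodule.subset_span ⟨0, good_zero, fmon_zero x⟩
  have ha' : a ∈ Submodule.span k (Submonoid.closure (Submodule.span k (Set.range x) : Set A) : Set A) := by
    rw [← Algebra.adjoin_eq_span]
    exact ha
  have h2 : (Submonoid.closure (Submodule.span k (Set.range x) : Set A) : Set A) ⊆ M k x := by
    intro b hb
    induction hb using Submonoid.closure_induction_right with
    | one => exact h0
    | mul_right b _ w hw hb => exact h1 b hb w hw
  exact Submodule.span_le.2 h2 ha'

end span

/-- Injectivity on the subalgebra generated by a space with primitive images. -/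
theorem injOn_adjoin (k : Type u) [Field k] (A : Type v) [CommRing A] [Algebra k A] (C : Type w) [CommRing C]
    [Bialgebra k C] (π : A →ₐ[k] C) (W : Submodule k A)
    (hW : ∀ a ∈ W, CoalgebraStruct.comul (R := k) (π a) = π a ⊗ₜ[k] 1 + 1 ⊗ₜ[k] π a)
    (hinj : ∀ a ∈ W, π a = 0 → a = 0)
    (hF : ∀ p : ℕ, p.Prime → CharP k p → ∀ a ∈ W, a ^ p ∈ W) :
    ∀ a ∈ Algebra.adjoin k (W : Set A), π a = 0 → a = 0 := by
  classical
  let b := Module.Basis.ofVectorSpace k W
  let x : Module.Basis.ofVectorSpaceIndex k W → A := fun i => (b i : A)
  have hspan : Submodule.span k (Set.range x) = W := by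
    have h1 : Set.range x = W.subtype '' Set.range b := by
      rw [← Set.range_comp]
      rfl
    rw [h1, Submodule.span_image, b.span_eq, Submodule.map_top, Submodule.range_subtype]
  have hxW : ∀ i, x i ∈ W := fun i => (b i).2
  have hF' : ∀ p : ℕ, p.Prime → CharP k p → ∀ i, x i ^ p ∈ Submodule.span k (Set.range x) := by
    intro p hp hc i
    rw [hspan]
    exact hF p hp hc _ (hxW i)
  have hy : ∀ i, IsPrim k (π (x i)) := fun i => hW _ (hxW i)
  have hli : LinearIndependent k (fun i => π (x i)) := by
    have h1 : LinearIndependent k (fun i => (π.toLinearMap ∘ₗ W.subtype) (b i)) := by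
      refine b.linearIndependent.map' _ ?_
      rw [LinearMap.ker_eq_bot']
      intro m hm
      exact Subtype.ext (hinj _ m.2 hm)
    exact h1
  have hind := fmon_indep hy hli
  intro a ha ha0
  have haM : a ∈ M k x := adjoin_le x hF' a (by rwa [hspan])
  rw [M, Finsupp.mem_span_image_iff_linearCombination] at haM
  obtain ⟨Q, hQ, rfl⟩ := haM
  have hπ : ∀ d : Module.Basis.ofVectorSpaceIndex k W →₀ ℕ, π (fmon x d) = fmon (fun i => π (x i)) d := by
    intro d
    rw [fmon, fmon, map_finsuppProd]
    simp only [map_pow]
  rw [linearIndepOn_iff] at hind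
  have h2 : Q = 0 := by
    apply hind Q hQ
    rw [← ha0, Finsupp.linearCombination_apply, Finsupp.linearCombination_apply, Finsupp.sum, Finsupp.sum,
      map_sum]
    refine Finset.sum_congr rfl fun d _ => ?_
    rw [map_smul, hπ]
  rw [h2, map_zero]

end K507.PrimPBW
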